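import Groth.Agent.HomCorrLib.Family

set_option autoImplicit false

/-!
A finite family of splittings with arbitrary types gives multiplicative type.
-/

noncomputable section

universe u v w

open scoped TensorProduct
open Groth.Agent.TorusField Groth.Agent.DiagHopf Groth.Agent.HomCorr

namespace KerMult

variable {R : Type u} [CommRing R] {A : Type u} [CommRing A] [HopfAlgebra R A]

/-- Two points over the same point are images of one point of the tensor product. -/
theorem exists_comap_tensor {S T : Type u} [CommRing S] [Algebra R S] [CommRing T] [Algebra R T]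
    (P : PrimeSpectrum S) (P' : PrimeSpectrum T)
    (h : PrimeSpectrum.comap (algebraMap R S) P = PrimeSpectrum.comap (algebraMap R T) P') :
    ∃ W : PrimeSpectrum (S ⊗[R] T), PrimeSpectrum.comap (algebraMap R (S ⊗[R] T)) W =
      PrimeSpectrum.comap (algebraMap R S) P := by
  let p := PrimeSpectrum.comap (algebraMap R T) P'
  let k := p.asIdeal.ResidueField
  letI a1 : Algebra k P.asIdeal.ResidueField :=
    (Ideal.ResidueField.map p.asIdeal P.asIdeal (algebraMap R S) (congrArg PrimeSpectrum.asIdeal h).symm).toAlgebra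
  letI a2 : Algebra k P'.asIdeal.ResidueField :=
    (Ideal.ResidueField.map p.asIdeal P'.asIdeal (algebraMap R T) rfl).toAlgebra
  haveI : IsScalarTower R k P.asIdeal.ResidueField := IsScalarTower.of_algebraMap_eq fun r => by
    rw [RingHom.algebraMap_toAlgebra, Ideal.ResidueField.map_algebraMap, ← IsScalarTower.algebraMap_apply]
  haveI : IsScalarTower R k P'.asIdeal.ResidueField := IsScalarTower.of_algebraMap_eq fun r => by
    rw [RingHom.algebraMap_toAlgebra, Ideal.ResidueField.map_algebraMap, ← IsScalarTower.algebraMap_apply]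
  let U := P.asIdeal.ResidueField ⊗[k] P'.asIdeal.ResidueField
  obtain ⟨m, hm⟩ := Ideal.exists_maximal U
  let Ω := U ⧸ m
  haveI : IsDomain Ω := Ideal.Quotient.isDomain m
  let f : S →ₐ[R] Ω := ((Ideal.Quotient.mkₐ R m).comp
    ((Algebra.TensorProduct.includeLeft : P.asIdeal.ResidueField →ₐ[k] U).restrictScalars R)).comp
      (IsScalarTower.toAlgHom R S P.asIdeal.ResidueField)
  let f' : T →ₐ[R] Ω := ((Ideal.Quotient.mkₐ R m).comp
    ((Algebra.TensorProduct.includeRight : P'.asIdeal.ResidueField →ₐ[k] U).restrictScalars R)).comp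
      (IsScalarTower.toAlgHom R T P'.asIdeal.ResidueField)
  let F := Algebra.TensorProduct.lift f f' fun _ _ => Commute.all _ _
  refine ⟨PrimeSpectrum.comap F.toRingHom ⟨⊥, Ideal.isPrime_bot⟩, ?_⟩
  rw [← PrimeSpectrum.comap_comp_apply]
  ext r
  let g : P.asIdeal.ResidueField →+* Ω := (Ideal.Quotient.mk m).comp
    (Algebra.TensorProduct.includeLeft : P.asIdeal.ResidueField →ₐ[k] U).toRingHom
  show F (algebraMap R (S ⊗[R] T) r) ∈ (⊥ : Ideal Ω) ↔ algebraMap R S r ∈ P.asIdeal
  rw [Ideal.mem_bot, AlgHom.commutes, ← f.commutes]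
  show g (algebraMap S P.asIdeal.ResidueField (algebraMap R S r)) = 0 ↔ _
  rw [map_eq_zero, Ideal.algebraMap_residueField_eq_zero]

/-- A finite family of splittings with faithfully flat product gives multiplicative type. -/
theorem isMultType_of_family {ι : Type u} [Fintype ι] {S : ι → Type u} [∀ i, CommRing (S i)] [∀ i, Algebra R (S i)]
    {N : ι → Type u} [∀ i, AddCommGroup (N i)] [∀ i, Module.Flat R (S i)]
    (hcov : ∀ p : PrimeSpectrum R, ∃ i, p ∈ Set.range (PrimeSpectrum.comap (algebraMap R (S i))))
    (E : ∀ i, Split R A (N i) (S i)) : SGA3b.IsMultType R A := by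
  classical
  let rg : ι → Set (PrimeSpectrum R) := fun i => Set.range (PrimeSpectrum.comap (algebraMap R (S i)))
  let cl : ι → Finset ι := fun i => Finset.univ.filter fun j => Nonempty (N j ≃+ N i)
  let V : ι → Set (PrimeSpectrum R) := fun i => ⋃ j ∈ cl i, rg j
  have hgen : ∀ j, StableUnderGeneralization (rg j) := fun j =>
    (RingHom.Flat.generalizingMap_comap (RingHom.flat_algebraMap_iff.2 inferInstance)).stableUnderGeneralization_range
  have hcompl : ∀ i, (V i)ᶜ = ⋃ j ∈ Finset.univ \ cl i, rg j := by
    intro i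
    ext p
    simp only [V, Set.mem_compl_iff, Set.mem_iUnion, Finset.mem_sdiff, Finset.mem_univ, true_and, exists_prop, not_exists,
      not_and]
    constructor
    · intro h
      obtain ⟨j, hj⟩ := hcov p
      exact ⟨j, fun hjc => h j hjc hj, hj⟩
    · rintro ⟨j, hj, P, hP⟩ k hk ⟨Q, hQ⟩
      obtain ⟨φ⟩ := nonempty_addEquiv_of_common (E k) (E j) Q P (hQ.trans hP.symm)
      obtain ⟨ψ⟩ := (Finset.mem_filter.1 hk).2
      exact hj (Finset.mem_filter.2 ⟨Finset.mem_univ _, ⟨φ.symm.trans ψ⟩⟩)
  -- each class is clopen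
  have hclosed : ∀ (t : Finset ι), StableUnderSpecialization (⋃ j ∈ t, rg j) → IsClosed (⋃ j ∈ t, rg j) := by
    intro t ht
    haveI : ∀ j : (t : Set ι), Module.Flat R (S j.1) := fun _ => inferInstance
    have e : (⋃ j ∈ t, rg j) = Set.range (PrimeSpectrum.comap (algebraMap R (Π j : (t : Set ι), S j.1))) := by
      ext p
      simp only [Set.mem_iUnion, exists_prop]
      constructor
      · rintro ⟨j, hj, P, rfl⟩
        exact ⟨PrimeSpectrum.comap (Pi.evalRingHom (fun j : (t : Set ι) => S j.1) ⟨j, hj⟩) P, rfl⟩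
      · rintro ⟨Q, rfl⟩
        obtain ⟨⟨j, P⟩, rfl⟩ := (PrimeSpectrum.sigmaToPi_bijective (fun j : (t : Set ι) => S j.1)).2 Q
        exact ⟨j.1, j.2, P, rfl⟩
    rw [e] at ht ⊢
    exact PrimeSpectrum.isClosed_range_of_stableUnderSpecialization _ ht
  have hclopen : ∀ i, IsClopen (V i) := by
    intro i
    have h1 : ∀ t : Finset ι, StableUnderGeneralization (⋃ j ∈ t, rg j) := fun t x y hxy hx => by
      simp only [Set.mem_iUnion, exists_prop] at hx ⊢
      obtain ⟨j, hj, hx⟩ := hx
      exact ⟨j, hj, hgen j hxy hx⟩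
    have ha : StableUnderSpecialization (V i) := by
      have := (h1 (Finset.univ \ cl i))
      rw [← hcompl, stableUnderGeneralization_compl_iff] at this
      exact this
    have hb : StableUnderSpecialization (V i)ᶜ := stableUnderSpecialization_compl_iff.2 (h1 _)
    rw [hcompl] at hb
    refine ⟨hclosed _ ha, ?_⟩
    rw [← isClosed_compl_iff, hcompl]
    exact hclosed _ hb
  choose e he heV using fun i => PrimeSpectrum.exists_idempotent_basicOpen_eq_of_isClopen (hclopen i)
  refine ⟨Set.range e, ?_, ?_⟩
  · by_contra hne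
    obtain ⟨m, hm, hle⟩ := Ideal.exists_le_maximal _ hne
    obtain ⟨i, hi⟩ := hcov ⟨m, hm.isPrime⟩
    have hp : (⟨m, hm.isPrime⟩ : PrimeSpectrum R) ∈ V i :=
      Set.mem_biUnion (Finset.mem_filter.2 ⟨Finset.mem_univ _, ⟨AddEquiv.refl _⟩⟩) hi
    rw [heV i] at hp
    exact hp (hle (Ideal.subset_span ⟨i, rfl⟩))
  · rintro _ ⟨i, rfl⟩
    let f := e i
    let T := Π j : (cl i : Set ι), S j.1
    have hunit : ∀ j : (cl i : Set ι), IsUnit (algebraMap R (S j.1) f) := fun j => by
      by_contra hn
      obtain ⟨M, hM, hfM⟩ := exists_max_ideal_of_mem_nonunits hn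
      have hp : PrimeSpectrum.comap (algebraMap R (S j.1)) ⟨M, hM.isPrime⟩ ∈ V i :=
        Set.mem_biUnion j.2 ⟨_, rfl⟩
      rw [heV i] at hp
      exact hp hfM
    have hu : IsUnit (algebraMap R T f) := (Pi.isUnit_iff (x := algebraMap R T f)).2 hunit
    letI : Algebra (Localization.Away f) T := (IsLocalization.Away.lift f hu).toAlgebra
    haveI : IsScalarTower R (Localization.Away f) T := IsScalarTower.of_algebraMap_eq fun r =>
      (IsLocalization.Away.lift_eq f hu r).symm
    haveI : Module.Flat R T := by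
      let eT := (DirectSum.linearEquivFunOnFintype R (cl i : Set ι) fun j => S j.1)
      exact Module.Flat.of_linearEquiv eT.symm
    haveI : Module.Flat (Localization.Away f) T :=
      (Module.flat_iff_of_isLocalization (Localization.Away f) (Submonoid.powers f) T).2 inferInstance
    haveI : Module.FaithfullyFlat (Localization.Away f) T := by
      refine Module.FaithfullyFlat.of_comap_surjective fun q => ?_
      have hq : PrimeSpectrum.comap (algebraMap R (Localization.Away f)) q ∈ V i := by
        rw [heV i]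
        show _ ∈ (PrimeSpectrum.basicOpen f : Set (PrimeSpectrum R))
        rw [← PrimeSpectrum.localization_away_comap_range (Localization.Away f) f]
        exact ⟨q, rfl⟩
      simp only [V, Set.mem_iUnion, exists_prop] at hq
      obtain ⟨j, hj, P, hP⟩ := hq
      refine ⟨PrimeSpectrum.comap (Pi.evalRingHom (fun j : (cl i : Set ι) => S j.1) ⟨j, hj⟩) P, ?_⟩
      apply PrimeSpectrum.localization_comap_injective (Localization.Away f) (Submonoid.powers f)
      rw [← hP, ← PrimeSpectrum.comap_comp_apply, ← IsScalarTower.algebraMap_eq]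
      rfl
    have hE : ∀ j : (cl i : Set ι), Nonempty (Split R A (N i) (S j.1)) := fun j => by
      obtain ⟨φ⟩ := (Finset.mem_filter.1 j.2).2
      exact exists_reindex (E j.1) φ
    obtain ⟨E', -⟩ := exists_split_pi fun j => (hE j).some
    obtain ⟨E''⟩ := exists_reindex E' (φ := (AddEquiv.refl _ : N i ≃+
      Additive (Multiplicative (N i))))
    obtain ⟨E₃⟩ := exists_split_transfer' (R' := Localization.Away f) E''
    exact ⟨T, inferInstance, inferInstance, inferInstance, Multiplicative (N i), inferInstance,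
      exists_bialgEquiv E₃⟩

end KerMult
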