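import Groth.Agent.KerMultLib.Family
import Mathlib.RingTheory.HopfAlgebra.Quotient

set_option autoImplicit false

/-!
Kernels of homomorphisms of split groups of multiplicative type.
-/

noncomputable section

universe u w

open scoped TensorProduct
open Groth.Agent.TorusField Groth.Agent.DiagHopf

namespace KerMult

variable {R : Type u} [CommRing R] {S : Type u} [CommRing S] [Algebra R S]

/-- Extension of scalars of an algebra map. -/
abbrev ext {A B : Type u} [CommRing A] [Algebra R A] [CommRing B] [Algebra R B] (f : A →ₐ[R] B) :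
    S ⊗[R] A →ₐ[S] S ⊗[R] B :=
  Algebra.TensorProduct.map (AlgHom.id S S) f

theorem isGL_ext {A B : Type u} [CommRing A] [Bialgebra R A] [CommRing B] [Bialgebra R B] (f : A →ₐc[R] B)
    {x : S ⊗[R] A} (hx : IsGL R A S x) : IsGL R B S (ext (f : A →ₐ[R] B) x) := by
  let f₀ : A →ₐ[R] B := (f : A →ₐ[R] B)
  let f₂ : S ⊗[R] (A ⊗[R] A) →ₐ[S] S ⊗[R] (B ⊗[R] B) :=
    Algebra.TensorProduct.map (AlgHom.id S S) (Algebra.TensorProduct.map f₀ f₀)
  have hD : (D R B S).comp (ext f₀) = f₂.comp (D R A S) := by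
    refine Algebra.TensorProduct.ext (Subsingleton.elim _ _) (AlgHom.ext fun a => ?_)
    simp only [AlgHom.comp_apply, AlgHom.coe_restrictScalars', Algebra.TensorProduct.includeRight_apply, D, f₂,
      Algebra.TensorProduct.map_tmul, AlgHom.id_apply, Bialgebra.comulAlgHom_apply]
    exact congrArg (fun z => (1 : S) ⊗ₜ[R] z) (CoalgHomClass.map_comp_comul_apply f a).symm
  have h1 : (J₁ R B S).comp (ext f₀) = f₂.comp (J₁ R A S) := by
    refine Algebra.TensorProduct.ext (Subsingleton.elim _ _) (AlgHom.ext fun a => ?_)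
    simp [J₁, f₂, ext]
  have h2 : (J₂ R B S).comp (ext f₀) = f₂.comp (J₂ R A S) := by
    refine Algebra.TensorProduct.ext (Subsingleton.elim _ _) (AlgHom.ext fun a => ?_)
    simp [J₂, f₂, ext]
  have he : (ev1 R B S).comp (ext f₀) = ev1 R A S := by
    refine Algebra.TensorProduct.ext (Subsingleton.elim _ _) (AlgHom.ext fun a => ?_)
    simp [ev1, ext, f₀, CoalgHomClass.counit_comp_apply]
  refine ⟨?_, ?_⟩
  · rw [← AlgHom.comp_apply, hD, AlgHom.comp_apply, hx.1, map_mul, ← AlgHom.comp_apply, ← h1,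
      ← AlgHom.comp_apply, ← h2]
    rfl
  · rw [← AlgHom.comp_apply, he, hx.2]

theorem push_ext {S' : Type u} [CommRing S'] [Algebra R S'] {A B : Type u} [CommRing A] [Bialgebra R A] [CommRing B]
    [Bialgebra R B] (g : S →ₐ[R] S') (f : A →ₐ[R] B) (x : S ⊗[R] A) : push g (ext f x) = ext f (push g x) := by
  induction x using TensorProduct.induction_on with
  | zero => simp
  | tmul s a => simp [push, ext]
  | add p q hp hq => simp only [map_add, hp, hq]

variable {A : Type u} [CommRing A] [HopfAlgebra R A] {C : Type u} [CommRing C] [HopfAlgebra R C]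

/-- A kernel of a homomorphism given by a map of characters splits. -/
theorem exists_split_ker {M P : Type u} [AddCommGroup M] [AddCommGroup P] (E : Split R A M S) (F : Split R C P S)
    (φ : C →ₐc[R] A) (P₀ : Finset P) (hP₀ : Algebra.adjoin S (F.e '' (P₀ : Set P)) = ⊤) (s : P → M)
    (hs : ∀ n ∈ P₀, ext (φ : C →ₐ[R] A) (F.e n) = E.e (s n)) (J : Ideal A) [J.IsHopfIdeal R]
    (hJ : J = Ideal.map φ (RingHom.ker (Bialgebra.counitAlgHom R C))) :
    ∃ (N : Type u) (_ : AddCommGroup N), Nonempty (Split R (A ⧸ J) N S) := by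
  classical
  let H : AddSubgroup M := AddSubgroup.closure (s '' (P₀ : Set P))
  let N := M ⧸ H
  refine ⟨N, inferInstance, ?_⟩
  let T := AddMonoidAlgebra S N
  let χ : M →+ N := QuotientAddGroup.mk' H
  let lam : S ⊗[R] A →ₗ[S] T := E.e.constr S fun m => AddMonoidAlgebra.single (χ m) 1
  have hlam : ∀ m, lam (E.e m) = AddMonoidAlgebra.single (χ m) 1 := fun m => by simp [lam]
  have hmul : ∀ x y, lam (x * y) = lam x * lam y := fun x y => by
    refine LinearMap.congr_fun (f := lam.comp (LinearMap.mulRight S y))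
      (g := (LinearMap.mulRight S (lam y)).comp lam) (E.e.ext fun a => ?_) x
    simp only [LinearMap.comp_apply, LinearMap.mulRight_apply]
    refine LinearMap.congr_fun (f := lam.comp (LinearMap.mulLeft S (E.e a)))
      (g := (LinearMap.mulLeft S (lam (E.e a))).comp lam) (E.e.ext fun b => ?_) y
    simp only [LinearMap.comp_apply, LinearMap.mulLeft_apply, ← E.e_add, hlam, map_add]
    exact ((AddMonoidAlgebra.single_mul_single ..).trans (by rw [mul_one])).symm
  let Lam : S ⊗[R] A →ₐ[S] T := AlgHom.ofLinearMap lam (by rw [← E.e_zero, hlam, map_zero]; rfl) hmul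
  -- the composite with `φ` is trivial
  have hgen : Lam.comp (ext (φ : C →ₐ[R] A)) = (Algebra.ofId S T).comp (ev1 R C S) := by
    refine AlgHom.ext_of_adjoin_eq_top hP₀ ?_
    rintro _ ⟨n, hn, rfl⟩
    show Lam (ext (φ : C →ₐ[R] A) (F.e n)) = algebraMap S T (ev1 R C S (F.e n))
    rw [hs n hn, (F.gl n).2, map_one]
    refine (hlam _).trans ?_
    rw [show χ (s n) = 0 from (QuotientAddGroup.eq_zero_iff _).2 (AddSubgroup.subset_closure ⟨n, hn, rfl⟩)]
    rfl
  let L₀ : A →ₐ[R] T := (Lam.restrictScalars R).comp Algebra.TensorProduct.includeRight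
  have hker : ∀ a ∈ J, L₀ a = 0 := by
    intro a ha
    refine (show J ≤ RingHom.ker L₀.toRingHom from ?_) ha
    rw [hJ, Ideal.map_le_iff_le_comap]
    intro c hc
    show Lam ((1 : S) ⊗ₜ[R] φ c) = 0
    have := AlgHom.congr_fun hgen ((1 : S) ⊗ₜ[R] c)
    simp only [AlgHom.comp_apply, ext, Algebra.TensorProduct.map_tmul, AlgHom.id_apply] at this
    refine this.trans ?_
    simp [ev1, show Coalgebra.counit (R := R) c = 0 from hc]
  let Back : S ⊗[R] (A ⧸ J) →ₐ[S] T :=
    Algebra.TensorProduct.lift (Algebra.ofId S T) (Ideal.Quotient.liftₐ J L₀ hker) fun _ _ => Commute.all _ _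
  let mkA : A →ₐc[R] A ⧸ J := Bialgebra.Quotient.mkBialgHom J
  let pr : S ⊗[R] A →ₐ[S] S ⊗[R] (A ⧸ J) := ext (mkA : A →ₐ[R] A ⧸ J)
  have hprC : pr.comp (ext (φ : C →ₐ[R] A)) = (Algebra.ofId S _).comp (ev1 R C S) := by
    refine Algebra.TensorProduct.ext (Subsingleton.elim _ _) (AlgHom.ext fun c => ?_)
    simp only [AlgHom.comp_apply, AlgHom.coe_restrictScalars', Algebra.TensorProduct.includeRight_apply, pr, ext,
      Algebra.TensorProduct.map_tmul, AlgHom.id_apply]
    have hc : c - algebraMap R C (Coalgebra.counit c) ∈ RingHom.ker (Bialgebra.counitAlgHom R C) := by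
      simp [RingHom.mem_ker]
    have h1 : (φ : C →ₐ[R] A) c - algebraMap R A (Coalgebra.counit c) ∈ J := by
      have h := Ideal.mem_map_of_mem φ hc
      rw [map_sub, AlgHomClass.commutes, ← hJ] at h
      exact h
    have h2 : mkA ((φ : C →ₐ[R] A) c) = algebraMap R (A ⧸ J) (Coalgebra.counit c) :=
      Ideal.Quotient.mk_eq_mk_iff_sub_mem _ _ |>.mpr h1
    show (1 : S) ⊗ₜ[R] mkA ((φ : C →ₐ[R] A) c) = _
    rw [h2]
    simp [ev1, Algebra.algebraMap_eq_smul_one, Algebra.TensorProduct.one_def]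
  have hone : ∀ m ∈ H, pr (E.e m) = 1 := by
    intro m hm
    induction hm using AddSubgroup.closure_induction with
    | mem m hm =>
      obtain ⟨n, hn, rfl⟩ := hm
      rw [← hs n hn, ← AlgHom.comp_apply, hprC, AlgHom.comp_apply, (F.gl n).2, map_one]
    | zero => rw [E.e_zero, map_one]
    | add a b _ _ ha hb => rw [E.e_add, map_mul, ha, hb, one_mul]
    | neg a _ ha =>
      have h : pr (E.e (-a)) * pr (E.e a) = 1 := by rw [← map_mul, ← E.e_add, neg_add_cancel, E.e_zero, map_one]
      rwa [ha, mul_one] at h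
  have hwd : ∀ a b : M, χ a = χ b → pr (E.e a) = pr (E.e b) := by
    intro a b hab
    have hm : -a + b ∈ H := QuotientAddGroup.eq.1 hab
    have e : E.e b = E.e a * E.e (-a + b) := by rw [← E.e_add, add_neg_cancel_left]
    rw [e, map_mul, hone _ hm, mul_one]
  have hout : ∀ n : N, χ (Quotient.out n) = n := fun n => QuotientAddGroup.out_eq' n
  let g : Multiplicative N →* S ⊗[R] (A ⧸ J) :=
    { toFun := fun n => pr (E.e (Quotient.out n.toAdd))
      map_one' := by
        rw [hwd _ 0 (by rw [hout, map_zero]; rfl), E.e_zero, map_one]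
      map_mul' := fun a b => by
        rw [← map_mul, ← E.e_add]
        refine hwd _ _ ?_
        rw [map_add, hout, hout, hout]
        rfl }
  let Fwd : T →ₐ[S] S ⊗[R] (A ⧸ J) := AddMonoidAlgebra.lift S (S ⊗[R] (A ⧸ J)) N g
  have hF : ∀ m : M, Fwd (AddMonoidAlgebra.single (χ m) 1) = pr (E.e m) := fun m => by
    rw [show Fwd (AddMonoidAlgebra.single (χ m) 1) = (1 : S) • g (Multiplicative.ofAdd (χ m)) from
      AddMonoidAlgebra.lift_single _ _ _, one_smul]
    exact hwd _ _ (hout _)
  have hBF : Back.comp Fwd = AlgHom.id S T := by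
    refine AddMonoidAlgebra.algHom_ext (fun n => ?_) (Subsingleton.elim _ _)
    obtain ⟨m, rfl⟩ := QuotientAddGroup.mk'_surjective H n
    show Back (Fwd (AddMonoidAlgebra.single (χ m) 1)) = _
    rw [hF]
    have : Back.comp pr = Lam := by
      refine Algebra.TensorProduct.ext (Subsingleton.elim _ _) (AlgHom.ext fun a => ?_)
      simp [Back, pr, ext, mkA, L₀]
    rw [← AlgHom.comp_apply, this]
    exact hlam m
  have hFB : Fwd.comp Back = AlgHom.id S _ := by
    have h1 : Fwd.comp Lam = pr := by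
      refine AlgHom.toLinearMap_injective (E.e.ext fun m => ?_)
      show Fwd (lam (E.e m)) = pr (E.e m)
      rw [hlam, hF]
    refine Algebra.TensorProduct.ext (Subsingleton.elim _ _) (AlgHom.ext fun a => ?_)
    obtain ⟨a, rfl⟩ := Ideal.Quotient.mk_surjective a
    have h2 := AlgHom.congr_fun h1 ((1 : S) ⊗ₜ[R] a)
    simpa [Back, pr, ext, mkA, L₀] using h2
  let eqv : T ≃ₐ[S] S ⊗[R] (A ⧸ J) := AlgEquiv.ofAlgHom Fwd Back hFB hBF
  let b : Module.Basis N S (S ⊗[R] (A ⧸ J)) := (AddMonoidAlgebra.basis N S).map eqv.toLinearEquiv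
  have hb : ∀ m : M, b (χ m) = pr (E.e m) := fun m => by
    simp only [b, Module.Basis.map_apply, AddMonoidAlgebra.basis_apply]
    exact hF m
  refine ⟨⟨b, ?_, fun x y => ?_, fun x => ?_⟩⟩
  · rw [← map_zero χ, hb, E.e_zero, map_one]
  · obtain ⟨x, rfl⟩ := QuotientAddGroup.mk'_surjective H x
    obtain ⟨y, rfl⟩ := QuotientAddGroup.mk'_surjective H y
    change b (χ x + χ y) = b (χ x) * b (χ y)
    rw [← map_add, hb, hb, hb, E.e_add, map_mul]
  · obtain ⟨x, rfl⟩ := QuotientAddGroup.mk'_surjective H x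
    change IsGL R (A ⧸ J) S (b (χ x))
    rw [hb]
    exact isGL_ext mkA (E.gl x)

end KerMult
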